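import Mathlib
import Groth.Prelude.Def_GrMod3
import Groth.Agent.Lib.Helper8.ProjTilde.FinTools
import Groth.Agent.Lib.Helper8.ProjTilde.StrSheaf

set_option autoImplicit false
universe u
open AlgebraicGeometry CategoryTheory Opposite TopologicalSpace DirectSum HomogeneousLocalization

/-!
# A calculus of degree-zero fractions on `Proj`
-/

namespace Groth.Agent.LD.PT

variable {A σ : Type u} [CommRing A] [SetLike σ A] [AddSubgroupClass σ A] (𝒜 : ℕ → σ) [GradedRing 𝒜]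

/-- the value of a section of the structure sheaf at a point, in the localization. -/
noncomputable def oval {V : (Proj 𝒜).Opens} (r : Γ(Proj 𝒜, V)) (x : V) :
    Localization.AtPrime x.1.asHomogeneousIdeal.toIdeal :=
  ((r : (ProjectiveSpectrum.Proj.structureSheaf 𝒜).1.obj (op V)).1 x).val

lemma sec_ext {V : (Proj 𝒜).Opens} (r r' : Γ(Proj 𝒜, V))
    (h : ∀ x : V, oval 𝒜 r x = oval 𝒜 r' x) : r = r' := by
  have : (r : (ProjectiveSpectrum.Proj.structureSheaf 𝒜).1.obj (op V)) = r' :=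
    Subtype.ext (funext fun x => HomogeneousLocalization.val_injective _ (h x))
  exact this

lemma oval_mul {V : (Proj 𝒜).Opens} (r r' : Γ(Proj 𝒜, V)) (x : V) :
    oval 𝒜 (r * r') x = oval 𝒜 r x * oval 𝒜 r' x :=
  HomogeneousLocalization.val_mul _ _

lemma oval_add {V : (Proj 𝒜).Opens} (r r' : Γ(Proj 𝒜, V)) (x : V) :
    oval 𝒜 (r + r') x = oval 𝒜 r x + oval 𝒜 r' x :=
  HomogeneousLocalization.val_add _ _

lemma oval_one {V : (Proj 𝒜).Opens} (x : V) : oval 𝒜 (1 : Γ(Proj 𝒜, V)) x = 1 :=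
  HomogeneousLocalization.val_one

lemma oval_zero {V : (Proj 𝒜).Opens} (x : V) : oval 𝒜 (0 : Γ(Proj 𝒜, V)) x = 0 :=
  HomogeneousLocalization.val_zero

lemma oval_pow {V : (Proj 𝒜).Opens} (r : Γ(Proj 𝒜, V)) (n : ℕ) (x : V) :
    oval 𝒜 (r ^ n) x = oval 𝒜 r x ^ n :=
  HomogeneousLocalization.val_pow _ _

lemma oval_res {V W : (Proj 𝒜).Opens} (h : W ≤ V) (r : Γ(Proj 𝒜, V)) (y : W) :
    oval 𝒜 ((Proj 𝒜).presheaf.map (homOfLE h).op r) y = oval 𝒜 r ⟨y.1, h y.2⟩ := rfl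

/-- `a / b` is a legitimate degree-zero fraction on `V`. -/
def Good (V : (Proj 𝒜).Opens) (a b : A) : Prop :=
  (∃ d : ℕ, a ∈ 𝒜 d ∧ b ∈ 𝒜 d) ∧ V ≤ Proj.basicOpen 𝒜 b

variable {𝒜}

lemma good_of {V : (Proj 𝒜).Opens} {d : ℕ} {a b : A} (ha : a ∈ 𝒜 d) (hb : b ∈ 𝒜 d)
    (hV : V ≤ Proj.basicOpen 𝒜 b) : Good 𝒜 V a b := ⟨⟨d, ha, hb⟩, hV⟩

lemma Good.mul {V : (Proj 𝒜).Opens} {a b a' b' : A} (h : Good 𝒜 V a b) (h' : Good 𝒜 V a' b') :
    Good 𝒜 V (a * a') (b * b') := by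
  obtain ⟨⟨d, ha, hb⟩, hV⟩ := h
  obtain ⟨⟨d', ha', hb'⟩, hV'⟩ := h'
  refine ⟨⟨d + d', SetLike.mul_mem_graded ha ha', SetLike.mul_mem_graded hb hb'⟩, ?_⟩
  rw [Proj.basicOpen_mul]
  exact le_inf hV hV'

lemma Good.mono {V W : (Proj 𝒜).Opens} {a b : A} (hWV : W ≤ V) (h : Good 𝒜 V a b) :
    Good 𝒜 W a b := ⟨h.1, hWV.trans h.2⟩

lemma Good.pow {V : (Proj 𝒜).Opens} {a b : A} (h : Good 𝒜 V a b) (n : ℕ) :
    Good 𝒜 V (a ^ n) (b ^ n) := by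
  obtain ⟨⟨d, ha, hb⟩, hV⟩ := h
  refine ⟨⟨n • d, SetLike.pow_mem_graded n ha, SetLike.pow_mem_graded n hb⟩, ?_⟩
  intro x hx
  rw [Proj.mem_basicOpen]
  intro hmem
  exact (Proj.mem_basicOpen 𝒜 b x).mp (hV hx) (x.isPrime.mem_of_pow_mem n hmem)

lemma Good.notMem {V : (Proj 𝒜).Opens} {a b : A} (h : Good 𝒜 V a b) (x : V) :
    b ∈ x.1.asHomogeneousIdeal.toIdeal.primeCompl :=
  (Proj.mem_basicOpen 𝒜 b x.1).mp (h.2 x.2)

variable (𝒜)

open Classical in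
/-- the section `a / b` over `V` (zero when `a / b` is not a legitimate fraction). -/
noncomputable def fr (V : (Proj 𝒜).Opens) (a b : A) : Γ(Proj 𝒜, V) :=
  if h : Good 𝒜 V a b then
    (Proj 𝒜).presheaf.map (homOfLE h.2).op
      (H8.ProjTilde.fracO 𝒜 h.1.choose_spec.2 1 (a := a) (by simpa using h.1.choose_spec.1))
  else 0

variable {𝒜}

lemma oval_fr {V : (Proj 𝒜).Opens} {a b : A} (h : Good 𝒜 V a b) (x : V) :
    oval 𝒜 (fr 𝒜 V a b) x = Localization.mk a ⟨b, h.notMem x⟩ := by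
  unfold fr
  rw [dif_pos h, oval_res]
  unfold oval
  rw [H8.ProjTilde.fracO_val]
  congr 1
  exact Subtype.ext (pow_one b)

lemma eq_fr_of_oval {V : (Proj 𝒜).Opens} {a b : A} (r : Γ(Proj 𝒜, V)) (h : Good 𝒜 V a b)
    (hr : ∀ x : V, oval 𝒜 r x = Localization.mk a ⟨b, h.notMem x⟩) : r = fr 𝒜 V a b :=
  sec_ext 𝒜 _ _ fun x => (hr x).trans (oval_fr h x).symm

lemma fr_mul {V : (Proj 𝒜).Opens} {a b a' b' : A} (h : Good 𝒜 V a b) (h' : Good 𝒜 V a' b') :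
    fr 𝒜 V a b * fr 𝒜 V a' b' = fr 𝒜 V (a * a') (b * b') := by
  apply sec_ext
  intro x
  rw [oval_mul, oval_fr h, oval_fr h', oval_fr (h.mul h'), Localization.mk_mul]
  rfl

lemma fr_cross {V : (Proj 𝒜).Opens} {a b a' b' : A} (h : Good 𝒜 V a b) (h' : Good 𝒜 V a' b')
    (e : a * b' = a' * b) : fr 𝒜 V a b = fr 𝒜 V a' b' := by
  apply sec_ext
  intro x
  rw [oval_fr h, oval_fr h', Localization.mk_eq_mk_iff, Localization.r_iff_exists]
  refine ⟨1, ?_⟩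
  change ((1 : A)) * (b' * a) = (1 : A) * (b * a')
  rw [mul_comm b' a, e, mul_comm a' b]

lemma fr_self {V : (Proj 𝒜).Opens} {b : A} (h : Good 𝒜 V b b) : fr 𝒜 V b b = 1 := by
  apply sec_ext
  intro x
  rw [oval_fr h, oval_one]
  exact Localization.mk_self (⟨b, h.notMem x⟩ : x.1.asHomogeneousIdeal.toIdeal.primeCompl)

lemma fr_zero {V : (Proj 𝒜).Opens} {b : A} (h : Good 𝒜 V 0 b) : fr 𝒜 V 0 b = 0 := by
  apply sec_ext
  intro x
  rw [oval_fr h, oval_zero]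
  exact Localization.mk_zero _

lemma fr_add {V : (Proj 𝒜).Opens} {a a' b : A} (h : Good 𝒜 V a b) (h' : Good 𝒜 V a' b)
    (h'' : Good 𝒜 V (a + a') b) : fr 𝒜 V a b + fr 𝒜 V a' b = fr 𝒜 V (a + a') b := by
  apply sec_ext
  intro x
  rw [oval_add, oval_fr h, oval_fr h', oval_fr h'']
  exact Localization.add_mk_self _ _ _

lemma fr_pow {V : (Proj 𝒜).Opens} {a b : A} (h : Good 𝒜 V a b) (n : ℕ) :
    fr 𝒜 V a b ^ n = fr 𝒜 V (a ^ n) (b ^ n) := by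
  apply sec_ext
  intro x
  rw [oval_pow, oval_fr h, oval_fr (h.pow n), Localization.mk_pow]
  rfl

lemma fr_res {V W : (Proj 𝒜).Opens} {a b : A} (hWV : W ≤ V) (h : Good 𝒜 V a b) :
    (Proj 𝒜).presheaf.map (homOfLE hWV).op (fr 𝒜 V a b) = fr 𝒜 W a b := by
  apply sec_ext
  intro x
  rw [oval_res, oval_fr h, oval_fr (h.mono hWV)]

/-- `fr` is a unit with explicit inverse. -/
lemma fr_mul_inv {V : (Proj 𝒜).Opens} {a b : A} (h : Good 𝒜 V a b) (h' : Good 𝒜 V b a) :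
    fr 𝒜 V a b * fr 𝒜 V b a = 1 := by
  have hg : Good 𝒜 V (b * a) (b * a) := by
    have := h.mul h'
    rwa [mul_comm a b] at this
  rw [fr_mul h h', fr_cross (h.mul h') hg (by ring)]
  exact fr_self hg

/-- helper8's `fracO` as a `fr`. -/
lemma fracO_eq_fr {d : ℕ} {g : A} (hg : g ∈ 𝒜 d) (k : ℕ) {a : A} (ha : a ∈ 𝒜 (k * d)) :
    H8.ProjTilde.fracO 𝒜 hg k ha = fr 𝒜 (Proj.basicOpen 𝒜 g) a (g ^ k) := by
  have hgood : Good 𝒜 (Proj.basicOpen 𝒜 g) a (g ^ k) :=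
    (good_of ha (H8.ProjTilde.pow_mem_graded' 𝒜 hg k) (by
      intro x hx
      rw [Proj.mem_basicOpen]
      exact H8.ProjTilde.pow_notMem_of_mem_basicOpen 𝒜 k ⟨x, hx⟩))
  exact eq_fr_of_oval _ hgood fun x => H8.ProjTilde.fracO_val 𝒜 hg k ha x

end Groth.Agent.LD.PT
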