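import Mathlib
import Groth.Agent.Lib.Lead.PT.Frac
import Groth.Agent.Lib.Lead.QC.Affine

set_option autoImplicit false
universe u
open AlgebraicGeometry CategoryTheory Opposite TopologicalSpace DirectSum HomogeneousLocalization

/-!
# The graded module `Γ_*(F)` of a module on `Proj`, by compatible tuples on the standard charts
-/

namespace Groth.Agent.LD.PT

variable {R A : Type u} [CommRing R] [CommRing A] [Algebra R A] (𝒜 : ℕ → Submodule R A)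
  [GradedAlgebra 𝒜]
variable {ι : Type u} (f : ι → A)

/-- the standard charts. -/
def U (i : ι) : (Proj 𝒜).Opens := Proj.basicOpen 𝒜 (f i)

/-- `a / f_i ^ d` on `U_i`. -/
noncomputable def rho (i : ι) (d : ℕ) (a : A) : Γ(Proj 𝒜, U 𝒜 f i) :=
  fr 𝒜 (U 𝒜 f i) a (f i ^ d)

variable {𝒜 f}

section basics
variable (hf : ∀ i, f i ∈ 𝒜 1)
include hf

lemma pow_mem (i : ι) (d : ℕ) : f i ^ d ∈ 𝒜 d := by
  simpa using SetLike.pow_mem_graded d (hf i)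

omit hf in
lemma U_le_pow (i : ι) (d : ℕ) : U 𝒜 f i ≤ Proj.basicOpen 𝒜 (f i ^ d) := by
  intro x hx
  rw [Proj.mem_basicOpen]
  exact H8.ProjTilde.pow_notMem_of_mem_basicOpen 𝒜 d ⟨x, hx⟩

lemma good_rho (i : ι) (d : ℕ) {a : A} (ha : a ∈ 𝒜 d) : Good 𝒜 (U 𝒜 f i) a (f i ^ d) :=
  good_of ha (pow_mem hf i d) (U_le_pow i d)

/-- `f_k ^ n / f_i ^ n` is a good fraction on any open inside `U_i`. -/
lemma good_pp {V : (Proj 𝒜).Opens} (i k : ι) (n : ℕ) (hV : V ≤ U 𝒜 f i) :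
    Good 𝒜 V (f k ^ n) (f i ^ n) :=
  good_of (pow_mem hf k n) (pow_mem hf i n) (hV.trans (U_le_pow i n))

lemma rho_one (i : ι) : rho 𝒜 f i 0 (1 : A) = 1 := by
  unfold rho
  have h : Good 𝒜 (U 𝒜 f i) (1 : A) (f i ^ 0) := good_rho hf i 0 SetLike.GradedOne.one_mem
  rw [pow_zero] at h ⊢
  exact fr_self h

lemma rho_mul (i : ι) {d d' : ℕ} {a a' : A} (ha : a ∈ 𝒜 d) (ha' : a' ∈ 𝒜 d') :
    rho 𝒜 f i d a * rho 𝒜 f i d' a' = rho 𝒜 f i (d + d') (a * a') := by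
  unfold rho
  rw [fr_mul (good_rho hf i d ha) (good_rho hf i d' ha'), pow_add]

lemma rho_add (i : ι) {d : ℕ} {a a' : A} (ha : a ∈ 𝒜 d) (ha' : a' ∈ 𝒜 d) :
    rho 𝒜 f i d (a + a') = rho 𝒜 f i d a + rho 𝒜 f i d a' := by
  unfold rho
  exact (fr_add (good_rho hf i d ha) (good_rho hf i d ha')
    (good_rho hf i d (add_mem ha ha'))).symm

lemma rho_zero (i : ι) (d : ℕ) : rho 𝒜 f i d (0 : A) = 0 := by
  unfold rho
  exact fr_zero (good_rho hf i d (zero_mem _))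

end basics

variable (𝒜 f) (F : (Proj 𝒜).Modules)

/-- restriction of sections of `F`. -/
noncomputable abbrev rF {V W : (Proj 𝒜).Opens} (h : W ≤ V) (s : Γ(F, V)) : Γ(F, W) :=
  F.presheaf.map (homOfLE h).op s

variable {𝒜 F} in
lemma rF_fr_smul {V W : (Proj 𝒜).Opens} (h : W ≤ V) {a b : A} (hg : Good 𝒜 V a b) (s : Γ(F, V)) :
    rF 𝒜 F h (fr 𝒜 V a b • s) = fr 𝒜 W a b • rF 𝒜 F h s := by
  unfold rF
  rw [Scheme.Modules.map_smul, fr_res h hg]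

/-- tuples of sections on the standard charts. -/
abbrev Tup : Type u := ∀ i : ι, Γ(F, U 𝒜 f i)

/-- the compatibility condition defining sections of `F(n)`. -/
def Compat (n : ℕ) (t : Tup 𝒜 f F) : Prop :=
  ∀ i k, rF 𝒜 F (inf_le_left : U 𝒜 f i ⊓ U 𝒜 f k ≤ U 𝒜 f i) (t i) =
    fr 𝒜 (U 𝒜 f i ⊓ U 𝒜 f k) (f k ^ n) (f i ^ n) •
      rF 𝒜 F (inf_le_right : U 𝒜 f i ⊓ U 𝒜 f k ≤ U 𝒜 f k) (t k)

/-- the degree `n` part of `Γ_*(F)`. -/
def Mn (n : ℕ) : AddSubgroup (Tup 𝒜 f F) where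
  carrier := {t | Compat 𝒜 f F n t}
  zero_mem' := fun i k => by
    show rF 𝒜 F _ (0 : Γ(F, U 𝒜 f i)) = _ • rF 𝒜 F _ (0 : Γ(F, U 𝒜 f k))
    unfold rF
    rw [map_zero, map_zero, smul_zero]
  add_mem' := fun {t t'} ht ht' i k => by
    show rF 𝒜 F _ (t i + t' i) = _ • rF 𝒜 F _ (t k + t' k)
    have h1 := ht i k
    have h2 := ht' i k
    unfold rF at h1 h2 ⊢
    rw [map_add, map_add, smul_add, h1, h2]
  neg_mem' := fun {t} ht i k => by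
    show rF 𝒜 F _ (- t i) = _ • rF 𝒜 F _ (- t k)
    have h1 := ht i k
    unfold rF at h1 ⊢
    rw [map_neg, map_neg, smul_neg, h1]

variable {𝒜 f F}

section gsmul
variable (hf : ∀ i, f i ∈ 𝒜 1)
include hf

lemma compat_smul {d n : ℕ} {a : A} (ha : a ∈ 𝒜 d) {t : Tup 𝒜 f F} (ht : Compat 𝒜 f F n t) :
    Compat 𝒜 f F (d + n) (fun i => rho 𝒜 f i d a • t i) := by
  intro i k
  have h1 : Good 𝒜 (U 𝒜 f i ⊓ U 𝒜 f k) a (f i ^ d) := (good_rho hf i d ha).mono inf_le_left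
  have h2 : Good 𝒜 (U 𝒜 f i ⊓ U 𝒜 f k) (f k ^ n) (f i ^ n) := good_pp hf i k n inf_le_left
  have h3 : Good 𝒜 (U 𝒜 f i ⊓ U 𝒜 f k) (f k ^ (d + n)) (f i ^ (d + n)) :=
    good_pp hf i k (d + n) inf_le_left
  have h4 : Good 𝒜 (U 𝒜 f i ⊓ U 𝒜 f k) a (f k ^ d) := (good_rho hf k d ha).mono inf_le_right
  show rF 𝒜 F _ (rho 𝒜 f i d a • t i) = _ • rF 𝒜 F _ (rho 𝒜 f k d a • t k)
  unfold rho
  rw [rF_fr_smul _ (good_rho hf i d ha), rF_fr_smul _ (good_rho hf k d ha), ht i k, smul_smul,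
    smul_smul, fr_mul h1 h2, fr_mul h3 h4]
  congr 1
  exact fr_cross (h1.mul h2) (h3.mul h4) (by ring)

/-- the graded action of `A` on `Γ_*(F)`. -/
noncomputable def gsmul {d n : ℕ} (a : 𝒜 d) (t : Mn 𝒜 f F n) : Mn 𝒜 f F (d + n) :=
  ⟨fun i => rho 𝒜 f i d a.1 • t.1 i, compat_smul hf a.2 t.2⟩

omit hf in
lemma gm_ext {n n' : ℕ} (e : n = n') (t : Mn 𝒜 f F n) (t' : Mn 𝒜 f F n') (h : t.1 = t'.1) :
    (GradedMonoid.mk n t : GradedMonoid (fun n => Mn 𝒜 f F n)) = GradedMonoid.mk n' t' := by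
  subst e
  have : t = t' := Subtype.ext h
  rw [this]

end gsmul

end Groth.Agent.LD.PT
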