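import Mathlib
import Groth.Agent.Lib.Lead.PT.GammaStar

set_option autoImplicit false
universe u
open AlgebraicGeometry CategoryTheory Opposite TopologicalSpace DirectSum HomogeneousLocalization

/-!
# `Γ_*(F)` as a graded module
-/

namespace Groth.Agent.LD.PT

variable {R A : Type u} [CommRing R] [CommRing A] [Algebra R A] {𝒜 : ℕ → Submodule R A}
  [GradedAlgebra 𝒜]
variable {ι : Type u} {f : ι → A} (hf : ∀ i, f i ∈ 𝒜 1) (F : (Proj 𝒜).Modules)

/-- the graded module structure. -/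
noncomputable def gmodule : DirectSum.Gmodule (fun d => 𝒜 d) (fun n => Mn 𝒜 f F n) where
  smul := fun a t => gsmul hf a t
  one_smul := by
    rintro ⟨n, t⟩
    refine gm_ext (zero_add n) _ _ (funext fun i => ?_)
    show rho 𝒜 f i 0 (1 : A) • t.1 i = t.1 i
    rw [rho_one hf, one_smul]
  mul_smul := by
    rintro ⟨d, a⟩ ⟨d', a'⟩ ⟨n, t⟩
    refine gm_ext (add_assoc d d' n) _ _ (funext fun i => ?_)
    show rho 𝒜 f i (d + d') (a.1 * a'.1) • t.1 i = rho 𝒜 f i d a.1 • rho 𝒜 f i d' a'.1 • t.1 i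
    rw [smul_smul, rho_mul hf i a.2 a'.2]
  smul_add := by
    intro d n a t t'
    refine Subtype.ext (funext fun i => ?_)
    show rho 𝒜 f i d a.1 • (t.1 i + t'.1 i) = rho 𝒜 f i d a.1 • t.1 i + rho 𝒜 f i d a.1 • t'.1 i
    rw [smul_add]
  smul_zero := by
    intro d n a
    refine Subtype.ext (funext fun i => ?_)
    show rho 𝒜 f i d a.1 • (0 : Γ(F, U 𝒜 f i)) = 0
    rw [smul_zero]
  add_smul := by
    intro d n a a' t
    refine Subtype.ext (funext fun i => ?_)
    show rho 𝒜 f i d (a.1 + a'.1) • t.1 i = rho 𝒜 f i d a.1 • t.1 i + rho 𝒜 f i d a'.1 • t.1 i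
    rw [rho_add hf i a.2 a'.2, add_smul]
  zero_smul := by
    intro d n t
    refine Subtype.ext (funext fun i => ?_)
    show rho 𝒜 f i d (0 : A) • t.1 i = 0
    rw [rho_zero hf, zero_smul]

variable (𝒜 f)

/-- `Γ_*(F)`. -/
abbrev GS : Type u := ⨁ n : ℕ, Mn 𝒜 f F n

variable {𝒜 f}

/-- the module structure over `⨁ 𝒜 d`. -/
noncomputable def modDS : Module (⨁ d, 𝒜 d) (GS 𝒜 f F) :=
  letI := gmodule hf F
  DirectSum.Gmodule.module (fun d => 𝒜 d) (fun n => Mn 𝒜 f F n)

/-- the module structure over `A`. -/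
noncomputable def modA : Module A (GS 𝒜 f F) :=
  letI := modDS hf F
  Module.compHom (GS 𝒜 f F) (DirectSum.decomposeRingEquiv 𝒜 : A ≃+* ⨁ d, 𝒜 d).toRingHom

/-- the module structure over `R`. -/
noncomputable def modR : Module R (GS 𝒜 f F) :=
  letI := modA hf F
  Module.compHom (GS 𝒜 f F) (algebraMap R A)

lemma tower : letI := modA hf F; letI := modR hf F; IsScalarTower R A (GS 𝒜 f F) := by
  letI := modA hf F
  letI := modR hf F
  refine ⟨fun r a z => ?_⟩
  show (r • a) • z = (algebraMap R A r) • (a • z)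
  rw [Algebra.smul_def, mul_smul]

variable (𝒜 f) in
/-- inclusion of the degree `n` part. -/
noncomputable def ofM (n : ℕ) : Mn 𝒜 f F n →+ GS 𝒜 f F := DirectSum.of (fun n => Mn 𝒜 f F n) n

lemma smul_ofM {d n : ℕ} {a : A} (ha : a ∈ 𝒜 d) (y : Mn 𝒜 f F n) :
    letI := modA hf F
    a • ofM 𝒜 f F n y = ofM 𝒜 f F (d + n) (gsmul hf ⟨a, ha⟩ y) := by
  letI := gmodule hf F
  letI := modDS hf F
  letI := modA hf F
  show (DirectSum.decompose 𝒜 a) • ofM 𝒜 f F n y = _
  rw [DirectSum.decompose_of_mem 𝒜 ha]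
  exact DirectSum.Gmodule.of_smul_of (fun d => 𝒜 d) (fun n => Mn 𝒜 f F n) ⟨a, ha⟩ y

lemma ofM_mem_range_of_eq {n n' : ℕ} (e : n' = n) (y : Mn 𝒜 f F n') :
    ofM 𝒜 f F n' y ∈ Set.range (ofM 𝒜 f F n) := by
  subst e
  exact ⟨y, rfl⟩

/-- the grading of `Γ_*(F)`. -/
noncomputable def grade (n : ℕ) : letI := modR hf F; Submodule R (GS 𝒜 f F) :=
  letI := modA hf F
  letI := modR hf F
  { carrier := Set.range (ofM 𝒜 f F n)
    add_mem' := by
      rintro _ _ ⟨y, rfl⟩ ⟨y', rfl⟩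
      exact ⟨y + y', map_add _ _ _⟩
    zero_mem' := ⟨0, map_zero _⟩
    smul_mem' := by
      rintro r _ ⟨y, rfl⟩
      show (algebraMap R A r) • ofM 𝒜 f F n y ∈ Set.range (ofM 𝒜 f F n)
      rw [smul_ofM hf F (SetLike.algebraMap_mem_graded 𝒜 r)]
      exact ofM_mem_range_of_eq F (zero_add n) _ }

lemma mem_grade {n : ℕ} {z : GS 𝒜 f F} :
    letI := modR hf F
    z ∈ grade hf F n ↔ ∃ y, ofM 𝒜 f F n y = z := Iff.rfl

/-- the degree `n` part maps to the `n`-th graded piece. -/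
noncomputable def toGrade (n : ℕ) : letI := modR hf F; Mn 𝒜 f F n →+ grade hf F n :=
  letI := modR hf F
  { toFun := fun y => ⟨ofM 𝒜 f F n y, ⟨y, rfl⟩⟩
    map_zero' := Subtype.ext (map_zero _)
    map_add' := fun _ _ => Subtype.ext (map_add _ _ _) }

/-- the decomposition. -/
noncomputable def decomp : letI := modR hf F; DirectSum.Decomposition (grade hf F) :=
  letI := modR hf F
  DirectSum.Decomposition.ofAddHom _
    (DirectSum.toAddMonoid fun n =>
      (DirectSum.of (fun n => grade hf F n) n).comp (toGrade hf F n))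
    (by
      apply DirectSum.addHom_ext
      intro n y
      simp only [AddMonoidHom.comp_apply, DirectSum.toAddMonoid_of, DirectSum.coeAddMonoidHom_of,
        AddMonoidHom.id_apply]
      rfl)
    (by
      apply DirectSum.addHom_ext
      rintro n ⟨_, ⟨y, rfl⟩⟩
      simp only [AddMonoidHom.comp_apply, DirectSum.coeAddMonoidHom_of, AddMonoidHom.id_apply]
      show (DirectSum.toAddMonoid fun n =>
        (DirectSum.of (fun n => grade hf F n) n).comp (toGrade hf F n))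
          (DirectSum.of (fun n => Mn 𝒜 f F n) n y) = _
      rw [DirectSum.toAddMonoid_of]
      rfl)

lemma gradedSMul : letI := modA hf F; letI := modR hf F; SetLike.GradedSMul 𝒜 (grade hf F) := by
  letI := modA hf F
  letI := modR hf F
  refine ⟨?_⟩
  rintro d n a _ ha ⟨y, rfl⟩
  rw [smul_ofM hf F ha]
  exact ⟨_, rfl⟩

/-- the `i`-th coordinate of the degree `n` component. -/
noncomputable def coord (n : ℕ) (i : ι) (z : GS 𝒜 f F) : Γ(F, U 𝒜 f i) := (z n).1 i

lemma coord_add (n : ℕ) (i : ι) (z z' : GS 𝒜 f F) :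
    coord F n i (z + z') = coord F n i z + coord F n i z' := rfl

lemma coord_ofM (n : ℕ) (i : ι) (y : Mn 𝒜 f F n) : coord F n i (ofM 𝒜 f F n y) = y.1 i := by
  unfold coord ofM
  rw [DirectSum.of_eq_same]

lemma coord_cast {n n' : ℕ} (e : n = n') (i : ι) (z : GS 𝒜 f F) :
    coord F n i z = coord F n' i z := by
  subst e; rfl

lemma coord_smul {d n : ℕ} {a : A} (ha : a ∈ 𝒜 d) (i : ι) {z : GS 𝒜 f F} :
    letI := modA hf F
    letI := modR hf F
    z ∈ grade hf F n → coord F (d + n) i (a • z) = rho 𝒜 f i d a • coord F n i z := by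
  letI := modA hf F
  letI := modR hf F
  rintro ⟨y, rfl⟩
  rw [smul_ofM hf F ha, coord_ofM, coord_ofM]
  rfl

lemma coord_compat {n : ℕ} {z : GS 𝒜 f F} :
    letI := modR hf F
    z ∈ grade hf F n → Compat 𝒜 f F n (fun i => coord F n i z) := by
  letI := modR hf F
  rintro ⟨y, rfl⟩
  have : (fun i => coord F n i (ofM 𝒜 f F n y)) = y.1 := funext fun i => coord_ofM F n i y
  rw [this]
  exact y.2

lemma eq_zero_of_coord {n : ℕ} {z : GS 𝒜 f F} :
    letI := modR hf F
    z ∈ grade hf F n → (∀ i, coord F n i z = 0) → z = 0 := by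
  letI := modR hf F
  rintro ⟨y, rfl⟩ h
  have : y = 0 := Subtype.ext (funext fun i => by rw [← coord_ofM F n i y, h i]; rfl)
  rw [this, map_zero]

/-- an element of `Γ_*(F)` of degree `n` from a compatible tuple. -/
noncomputable def mkGS (n : ℕ) (t : Tup 𝒜 f F) (ht : Compat 𝒜 f F n t) : GS 𝒜 f F :=
  ofM 𝒜 f F n ⟨t, ht⟩

lemma mkGS_mem (n : ℕ) (t : Tup 𝒜 f F) (ht : Compat 𝒜 f F n t) :
    letI := modR hf F
    mkGS F n t ht ∈ grade hf F n := ⟨_, rfl⟩

lemma coord_mkGS (n : ℕ) (t : Tup 𝒜 f F) (ht : Compat 𝒜 f F n t) (i : ι) :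
    coord F n i (mkGS F n t ht) = t i := coord_ofM F n i _

end Groth.Agent.LD.PT
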