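import Mathlib
import Groth.Agent.Lib.Lead.PT.GrModule
import Groth.Agent.Lib.Helper8.ProjTilde.QCoh
import Groth.Agent.Lib.Helper8.ProjTilde.Comap
import Groth.Agent.Lib.Helper2.ModGlue

set_option autoImplicit false
universe u
open AlgebraicGeometry CategoryTheory Opposite TopologicalSpace DirectSum HomogeneousLocalization

/-!
# The morphism `β : Γ_*(F)~ ⟶ F`
-/

namespace Groth.Agent.LD.PT

variable {R A : Type u} [CommRing R] [CommRing A] [Algebra R A] {𝒜 : ℕ → Submodule R A}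
  [GradedAlgebra 𝒜]
variable {ι : Type u} {f : ι → A}

section rFlemmas
variable (F : (Proj 𝒜).Modules)

lemma rF_rF {V W T : (Proj 𝒜).Opens} (h1 : W ≤ V) (h2 : T ≤ W) (s : Γ(F, V)) :
    rF 𝒜 F h2 (rF 𝒜 F h1 s) = rF 𝒜 F (h2.trans h1) s := QC.res_res F h1 h2 s

lemma rF_self {V : (Proj 𝒜).Opens} (h : V ≤ V) (s : Γ(F, V)) : rF 𝒜 F h s = s :=
  QC.res_self F h s

lemma rF_add {V W : (Proj 𝒜).Opens} (h : W ≤ V) (s s' : Γ(F, V)) :
    rF 𝒜 F h (s + s') = rF 𝒜 F h s + rF 𝒜 F h s' := map_add _ _ _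

lemma rF_sub {V W : (Proj 𝒜).Opens} (h : W ≤ V) (s s' : Γ(F, V)) :
    rF 𝒜 F h (s - s') = rF 𝒜 F h s - rF 𝒜 F h s' := map_sub _ _ _

lemma rF_zero {V W : (Proj 𝒜).Opens} (h : W ≤ V) : rF 𝒜 F h (0 : Γ(F, V)) = 0 := map_zero _

lemma rF_ext_of_cover {κ : Type*} {W : (Proj 𝒜).Opens} (V : κ → (Proj 𝒜).Opens)
    (hV : ∀ x, V x ≤ W) (hcov : W ≤ ⨆ x, V x) (s s' : Γ(F, W))
    (h : ∀ x, rF 𝒜 F (hV x) s = rF 𝒜 F (hV x) s') : s = s' :=
  QC.section_ext_of_cover F V hV hcov s s' h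

end rFlemmas

/-- `g ^ k` does not vanish on `D₊(g)`. -/
lemma basicOpen_le_pow (g : A) (k : ℕ) : Proj.basicOpen 𝒜 g ≤ Proj.basicOpen 𝒜 (g ^ k) := by
  intro x hx
  rw [Proj.mem_basicOpen]
  exact H8.ProjTilde.pow_notMem_of_mem_basicOpen 𝒜 k ⟨x, hx⟩

variable (𝒜 f) in
/-- index set of the basis: homogeneous `g` of positive degree with `D₊(g)` inside a chart. -/
structure BIdx : Type u where
  /-- the chart -/
  i : ι
  /-- the degree -/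
  e : ℕ
  he : 0 < e
  /-- the element -/
  g : A
  hg : g ∈ 𝒜 e
  hle : Proj.basicOpen 𝒜 g ≤ U 𝒜 f i

/-- the basic opens. -/
abbrev B (j : BIdx 𝒜 f) : (Proj 𝒜).Opens := Proj.basicOpen 𝒜 j.g

lemma pow_mem' (j : BIdx 𝒜 f) (k : ℕ) : j.g ^ k ∈ 𝒜 (k * j.e) :=
  H8.ProjTilde.pow_mem_graded' 𝒜 j.hg k

lemma isBasis_B (hcov : ∀ x : Proj 𝒜, ∃ i, x ∈ U 𝒜 f i) :
    Opens.IsBasis (Set.range (B : BIdx 𝒜 f → (Proj 𝒜).Opens)) := by
  rw [Opens.isBasis_iff_nbhd]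
  intro W x hxW
  obtain ⟨i, hi⟩ := hcov x
  obtain ⟨V, ⟨⟨g, d, hd, hg⟩, rfl⟩, hxV, hVW⟩ :=
    Opens.isBasis_iff_nbhd.mp (H8.ProjTilde.isBasis_homogBasis 𝒜)
      (show x ∈ W ⊓ U 𝒜 f i from ⟨hxW, hi⟩)
  exact ⟨_, ⟨⟨i, d, hd, g, hg, hVW.trans inf_le_right⟩, rfl⟩, hxV, hVW.trans inf_le_left⟩

section main
variable [hfF : Fact (∀ i, f i ∈ 𝒜 1)] (F : (Proj 𝒜).Modules)

/-- `Γ_*(F)` as an `A`-module. -/
noncomputable scoped instance instModA : Module A (GS 𝒜 f F) := modA hfF.out F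
/-- `Γ_*(F)` as an `R`-module. -/
noncomputable scoped instance instModR : Module R (GS 𝒜 f F) := modR hfF.out F
scoped instance instTower : IsScalarTower R A (GS 𝒜 f F) := tower hfF.out F

variable (𝒜 f) in
/-- the grading of `Γ_*(F)`. -/
noncomputable def Gr (n : ℕ) : Submodule R (GS 𝒜 f F) := grade hfF.out F n

/-- the decomposition. -/
noncomputable scoped instance instDecomp : DirectSum.Decomposition (Gr 𝒜 f F) := decomp hfF.out F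
scoped instance instGSMul : SetLike.GradedSMul 𝒜 (Gr 𝒜 f F) := gradedSMul hfF.out F

variable (𝒜 f) in
/-- `Γ_*(F)~`. -/
noncomputable abbrev Til : (Proj 𝒜).Modules := GrMod.tilde 𝒜 (Gr 𝒜 f F) 0

lemma mem_Gr {n : ℕ} {z : GS 𝒜 f F} : z ∈ Gr 𝒜 f F n ↔ ∃ y, ofM 𝒜 f F n y = z := Iff.rfl

lemma coord_smul' {d n : ℕ} {a : A} (ha : a ∈ 𝒜 d) (i : ι) {z : GS 𝒜 f F}
    (hz : z ∈ Gr 𝒜 f F n) :
    coord F (d + n) i (a • z) = rho 𝒜 f i d a • coord F n i z :=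
  coord_smul hfF.out F ha i hz

lemma coord_compat' {n : ℕ} {z : GS 𝒜 f F} (hz : z ∈ Gr 𝒜 f F n) (i k : ι) :
    rF 𝒜 F (inf_le_left : U 𝒜 f i ⊓ U 𝒜 f k ≤ U 𝒜 f i) (coord F n i z) =
      fr 𝒜 (U 𝒜 f i ⊓ U 𝒜 f k) (f k ^ n) (f i ^ n) •
        rF 𝒜 F (inf_le_right : U 𝒜 f i ⊓ U 𝒜 f k ≤ U 𝒜 f k) (coord F n k z) :=
  coord_compat hfF.out F hz i k

lemma eq_zero_of_coord' {n : ℕ} {z : GS 𝒜 f F} (hz : z ∈ Gr 𝒜 f F n)
    (h : ∀ i, coord F n i z = 0) : z = 0 :=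
  eq_zero_of_coord hfF.out F hz h

lemma mkGS_mem' (n : ℕ) (t : Tup 𝒜 f F) (ht : Compat 𝒜 f F n t) :
    mkGS F n t ht ∈ Gr 𝒜 f F n := mkGS_mem hfF.out F n t ht

/-- the algebraic core of the well-definedness of `β`: on an open where `u` is invertible. -/
lemma master_local {W : (Proj 𝒜).Opens} {i i' : ι} (hWi : W ≤ U 𝒜 f i) (hWi' : W ≤ U 𝒜 f i')
    {e e' j : ℕ} {g g' u : A} (hg : g ∈ 𝒜 e) (hg' : g' ∈ 𝒜 e') (hu : u ∈ 𝒜 j)
    (hWg : W ≤ Proj.basicOpen 𝒜 g) (hWg' : W ≤ Proj.basicOpen 𝒜 g')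
    (hWu : W ≤ Proj.basicOpen 𝒜 u)
    {z z' : GS 𝒜 f F} (hz : z ∈ Gr 𝒜 f F e) (hz' : z' ∈ Gr 𝒜 f F e')
    (h : (u * g') • z = (u * g) • z') :
    fr 𝒜 W (f i ^ e) g • rF 𝒜 F hWi (coord F e i z) =
      fr 𝒜 W (f i' ^ e') g' • rF 𝒜 F hWi' (coord F e' i' z') := by
  have hf := hfF.out
  have hug' : u * g' ∈ 𝒜 (j + e') := SetLike.mul_mem_graded hu hg'
  have hug : u * g ∈ 𝒜 (j + e) := SetLike.mul_mem_graded hu hg
  have E1 : rho 𝒜 f i (j + e') (u * g') • coord F e i z =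
      rho 𝒜 f i (j + e) (u * g) • coord F e' i z' := by
    rw [← coord_smul' F hug' i hz, ← coord_smul' F hug i hz', h]
    exact coord_cast F (by omega) i _
  have E1' : fr 𝒜 W (u * g') (f i ^ (j + e')) • rF 𝒜 F hWi (coord F e i z) =
      fr 𝒜 W (u * g) (f i ^ (j + e)) • rF 𝒜 F hWi (coord F e' i z') := by
    have := congrArg (rF 𝒜 F hWi) E1
    unfold rho at this
    rw [rF_fr_smul hWi (good_rho hf i _ hug'), rF_fr_smul hWi (good_rho hf i _ hug)] at this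
    exact this
  have E2' : rF 𝒜 F hWi (coord F e' i z') =
      fr 𝒜 W (f i' ^ e') (f i ^ e') • rF 𝒜 F hWi' (coord F e' i' z') := by
    have := congrArg (rF 𝒜 F (le_inf hWi hWi')) (coord_compat' F hz' i i')
    rw [rF_fr_smul _ (good_pp hf i i' e'
      (inf_le_left : U 𝒜 f i ⊓ U 𝒜 f i' ≤ U 𝒜 f i)), rF_rF, rF_rF] at this
    exact this
  have hX : Good 𝒜 W (f i ^ e) g := good_of (pow_mem hf i e) hg hWg
  have hY : Good 𝒜 W (f i' ^ e') g' := good_of (pow_mem hf i' e') hg' hWg'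
  have hP : Good 𝒜 W (u * g') (f i ^ (j + e')) := (good_rho hf i _ hug').mono hWi
  have hP' : Good 𝒜 W (f i ^ (j + e')) (u * g') :=
    good_of (pow_mem hf i _) hug' (by rw [Proj.basicOpen_mul]; exact le_inf hWu hWg')
  have hQ : Good 𝒜 W (u * g) (f i ^ (j + e)) := (good_rho hf i _ hug).mono hWi
  have hC : Good 𝒜 W (f i' ^ e') (f i ^ e') := good_pp hf i i' e' hWi
  have hS : rF 𝒜 F hWi (coord F e i z) =
      (fr 𝒜 W (f i ^ (j + e')) (u * g') * fr 𝒜 W (u * g) (f i ^ (j + e)) *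
        fr 𝒜 W (f i' ^ e') (f i ^ e')) • rF 𝒜 F hWi' (coord F e' i' z') := by
    calc rF 𝒜 F hWi (coord F e i z)
        = (fr 𝒜 W (f i ^ (j + e')) (u * g') * fr 𝒜 W (u * g') (f i ^ (j + e'))) •
            rF 𝒜 F hWi (coord F e i z) := by rw [fr_mul_inv hP' hP, one_smul]
      _ = fr 𝒜 W (f i ^ (j + e')) (u * g') • (fr 𝒜 W (u * g') (f i ^ (j + e')) •
            rF 𝒜 F hWi (coord F e i z)) := mul_smul _ _ _
      _ = _ := by rw [E1', E2', mul_smul, mul_smul]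
  rw [hS, smul_smul]
  congr 1
  rw [fr_mul hP' hQ, fr_mul (hP'.mul hQ) hC, fr_mul hX ((hP'.mul hQ).mul hC)]
  exact fr_cross (hX.mul ((hP'.mul hQ).mul hC)) hY (by ring)

/-- **well-definedness of `β`**: two fractions with the same values in the localized modules
give the same section of `F`. -/
lemma master {W : (Proj 𝒜).Opens} {i i' : ι} (hWi : W ≤ U 𝒜 f i) (hWi' : W ≤ U 𝒜 f i')
    {e e' : ℕ} {g g' : A} (hg : g ∈ 𝒜 e) (hg' : g' ∈ 𝒜 e')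
    (hWg : W ≤ Proj.basicOpen 𝒜 g) (hWg' : W ≤ Proj.basicOpen 𝒜 g')
    {z z' : GS 𝒜 f F} (hz : z ∈ Gr 𝒜 f F e) (hz' : z' ∈ Gr 𝒜 f F e')
    (h : ∀ (x : W) (h1 : g ∉ x.1.asHomogeneousIdeal) (h2 : g' ∉ x.1.asHomogeneousIdeal),
      (LocalizedModule.mk z ⟨g, h1⟩ : GrMod.LocMod 𝒜 (M := GS 𝒜 f F) x.1) =
        LocalizedModule.mk z' ⟨g', h2⟩) :
    fr 𝒜 W (f i ^ e) g • rF 𝒜 F hWi (coord F e i z) =
      fr 𝒜 W (f i' ^ e') g' • rF 𝒜 F hWi' (coord F e' i' z') := by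
  have hf := hfF.out
  have key : ∀ x : W, ∃ (j : ℕ) (u : A), u ∈ 𝒜 j ∧ u ∉ x.1.asHomogeneousIdeal ∧
      (u * g') • z = (u * g) • z' := by
    intro x
    have hx1 : g ∉ x.1.asHomogeneousIdeal := (Proj.mem_basicOpen 𝒜 g x.1).mp (hWg x.2)
    have hx2 : g' ∉ x.1.asHomogeneousIdeal := (Proj.mem_basicOpen 𝒜 g' x.1).mp (hWg' x.2)
    obtain ⟨v, hv⟩ := LocalizedModule.mk_eq.mp (h x hx1 hx2)
    have hv' : (v : A) • (g' • z - g • z') = 0 := by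
      rw [smul_sub, sub_eq_zero]
      exact hv
    have hw : g' • z - g • z' ∈ Gr 𝒜 f F (e' + e) := by
      refine sub_mem (SetLike.GradedSMul.smul_mem hg' hz) ?_
      rw [add_comm e' e]
      exact SetLike.GradedSMul.smul_mem hg hz'
    obtain ⟨j, hj⟩ := H8.ProjTilde.exists_component_notMem 𝒜 x.1 v.2
    refine ⟨j, (DirectSum.decompose 𝒜 (v : A) j : A), (DirectSum.decompose 𝒜 (v : A) j).2, hj, ?_⟩
    have h0 := H8.ProjTilde.component_smul_eq_zero 𝒜 (Gr 𝒜 f F) hw (v : A) hv' j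
    rw [smul_sub, sub_eq_zero] at h0
    rw [mul_smul, mul_smul]
    exact h0
  choose j u hu hux huz using key
  have hX : Good 𝒜 W (f i ^ e) g := good_of (pow_mem hf i e) hg hWg
  have hY : Good 𝒜 W (f i' ^ e') g' := good_of (pow_mem hf i' e') hg' hWg'
  refine rF_ext_of_cover F (fun x : W => W ⊓ Proj.basicOpen 𝒜 (u x)) (fun x => inf_le_left)
    ?_ _ _ ?_
  · intro y hy
    exact Opens.mem_iSup.mpr ⟨⟨y, hy⟩, ⟨hy, (Proj.mem_basicOpen 𝒜 _ y).mpr (hux ⟨y, hy⟩)⟩⟩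
  · intro x
    rw [rF_fr_smul _ hX, rF_fr_smul _ hY, rF_rF, rF_rF]
    exact master_local F (inf_le_left.trans hWi) (inf_le_left.trans hWi') hg hg' (hu x)
      (inf_le_left.trans hWg) (inf_le_left.trans hWg') inf_le_right hz hz' (huz x)

/-- the candidate value of `β` on `z / g ^ k`. -/
noncomputable def Fr (j : BIdx 𝒜 f) (k n : ℕ) (z : GS 𝒜 f F) : Γ(F, B j) :=
  fr 𝒜 (B j) (f j.i ^ n) (j.g ^ k) • rF 𝒜 F j.hle (coord F n j.i z)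

/-- `t` is the fraction `z / g ^ k` on `D₊(g)`. -/
structure IsRep (j : BIdx 𝒜 f) (t : Γ(Til 𝒜 f F, B j)) (k n : ℕ) (z : GS 𝒜 f F) : Prop where
  hn : n = k * j.e
  hz : z ∈ Gr 𝒜 f F n
  hv : ∀ x : B j, GrMod.val t x = LocalizedModule.mk z
    ⟨j.g ^ k, H8.ProjTilde.pow_notMem_of_mem_basicOpen 𝒜 (f := j.g) k x⟩

lemma exists_rep (j : BIdx 𝒜 f) (t : Γ(Til 𝒜 f F, B j)) :
    ∃ (k n : ℕ) (z : GS 𝒜 f F), IsRep F j t k n z := by
  obtain ⟨k, n, z, hz, hn, ht⟩ := H8.ProjTilde.exists_eq_powSect 𝒜 (Gr 𝒜 f F) 0 j.he j.hg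
    (H8.ProjTilde.toSect 𝒜 (Gr 𝒜 f F) t)
  refine ⟨k, n, z, ?_, hz, fun x => ?_⟩
  · have h1 : (n : ℤ) = ((k * j.e : ℕ) : ℤ) := by rw [hn, add_zero, Nat.cast_mul]
    exact_mod_cast h1
  · have := congrArg (fun s : GrMod.sect 𝒜 (Gr 𝒜 f F) 0
      (op (ProjectiveSpectrum.basicOpen 𝒜 j.g)) =>
        ((s.1 x).1 : GrMod.LocMod 𝒜 (M := GS 𝒜 f F) x.1)) ht
    exact this

lemma Fr_eq_of_val {j j' : BIdx 𝒜 f} (hjj' : B j' ≤ B j) {k n k' n' : ℕ} {z z' : GS 𝒜 f F}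
    (hn : n = k * j.e) (hn' : n' = k' * j'.e) (hz : z ∈ Gr 𝒜 f F n) (hz' : z' ∈ Gr 𝒜 f F n')
    (h : ∀ x : B j', (LocalizedModule.mk z ⟨j.g ^ k,
        H8.ProjTilde.pow_notMem_of_mem_basicOpen 𝒜 (f := j.g) k ⟨x.1, hjj' x.2⟩⟩ :
          GrMod.LocMod 𝒜 (M := GS 𝒜 f F) x.1) =
        LocalizedModule.mk z' ⟨j'.g ^ k',
          H8.ProjTilde.pow_notMem_of_mem_basicOpen 𝒜 (f := j'.g) k' x⟩) :
    rF 𝒜 F hjj' (Fr F j k n z) = Fr F j' k' n' z' := by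
  have hf := hfF.out
  subst hn hn'
  have hgk : j.g ^ k ∈ 𝒜 (k * j.e) := pow_mem' j k
  have hgk' : j'.g ^ k' ∈ 𝒜 (k' * j'.e) := pow_mem' j' k'
  have hG : Good 𝒜 (B j) (f j.i ^ (k * j.e)) (j.g ^ k) :=
    good_of (pow_mem hf j.i _) hgk (basicOpen_le_pow j.g k)
  unfold Fr
  rw [rF_fr_smul hjj' hG, rF_rF]
  exact master F (hjj'.trans j.hle) j'.hle hgk hgk' (hjj'.trans (basicOpen_le_pow j.g k))
    (basicOpen_le_pow j'.g k') hz hz' (fun x h1 h2 => h x)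

/-- the value of `β` on a section over a basic open. -/
noncomputable def phiFun (j : BIdx 𝒜 f) (t : Γ(Til 𝒜 f F, B j)) : Γ(F, B j) :=
  Fr F j (exists_rep F j t).choose (exists_rep F j t).choose_spec.choose
    (exists_rep F j t).choose_spec.choose_spec.choose

lemma phiFun_eq (j : BIdx 𝒜 f) (t : Γ(Til 𝒜 f F, B j)) {k n : ℕ} {z : GS 𝒜 f F}
    (h : IsRep F j t k n z) : phiFun F j t = Fr F j k n z := by
  have h0 : IsRep F j t _ _ _ := (exists_rep F j t).choose_spec.choose_spec.choose_spec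
  have := Fr_eq_of_val F (le_refl (B j)) h0.hn h.hn h0.hz h.hz
    (fun x => (h0.hv x).symm.trans (h.hv x))
  rw [rF_self] at this
  exact this

lemma Fr_add (j : BIdx 𝒜 f) (k n : ℕ) (z z' : GS 𝒜 f F) :
    Fr F j k n (z + z') = Fr F j k n z + Fr F j k n z' := by
  unfold Fr
  rw [coord_add, rF_add, smul_add]

lemma Fr_cast (j : BIdx 𝒜 f) {k k' n n' : ℕ} (hk : k = k') (hn : n = n') (z : GS 𝒜 f F) :
    Fr F j k n z = Fr F j k' n' z := by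
  subst hk hn
  rfl

lemma Fr_smul (j : BIdx 𝒜 f) {k m : ℕ} {a : A} (ha : a ∈ 𝒜 (m * j.e)) {z : GS 𝒜 f F}
    (hz : z ∈ Gr 𝒜 f F (k * j.e)) :
    Fr F j (m + k) (m * j.e + k * j.e) (a • z) =
      fr 𝒜 (B j) a (j.g ^ m) • Fr F j k (k * j.e) z := by
  have hf := hfF.out
  have hgm : j.g ^ m ∈ 𝒜 (m * j.e) := pow_mem' j m
  have hgk : j.g ^ k ∈ 𝒜 (k * j.e) := pow_mem' j k
  have hgmk : j.g ^ (m + k) ∈ 𝒜 (m * j.e + k * j.e) := by
    rw [← add_mul]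
    exact pow_mem' j (m + k)
  have G1 : Good 𝒜 (B j) (f j.i ^ (m * j.e + k * j.e)) (j.g ^ (m + k)) :=
    good_of (pow_mem hf j.i _) hgmk (basicOpen_le_pow j.g _)
  have G2 : Good 𝒜 (B j) a (f j.i ^ (m * j.e)) := (good_rho hf j.i _ ha).mono j.hle
  have G3 : Good 𝒜 (B j) a (j.g ^ m) := good_of ha hgm (basicOpen_le_pow j.g m)
  have G4 : Good 𝒜 (B j) (f j.i ^ (k * j.e)) (j.g ^ k) :=
    good_of (pow_mem hf j.i _) hgk (basicOpen_le_pow j.g k)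
  unfold Fr
  rw [coord_smul' F ha j.i hz]
  unfold rho
  rw [rF_fr_smul j.hle (good_rho hf j.i _ ha), smul_smul, smul_smul, fr_mul G1 G2, fr_mul G3 G4]
  congr 1
  exact fr_cross (G1.mul G2) (G3.mul G4) (by ring)

lemma phiFun_add (j : BIdx 𝒜 f) (t t' : Γ(Til 𝒜 f F, B j)) :
    phiFun F j (t + t') = phiFun F j t + phiFun F j t' := by
  obtain ⟨k, n, z, hn, hz, hv⟩ := exists_rep F j t
  obtain ⟨k', n', z', hn', hz', hv'⟩ := exists_rep F j t'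
  subst hn hn'
  have hgk : j.g ^ k ∈ 𝒜 (k * j.e) := pow_mem' j k
  have hgk' : j.g ^ k' ∈ 𝒜 (k' * j.e) := pow_mem' j k'
  have hz1 : j.g ^ k' • z ∈ Gr 𝒜 f F (k' * j.e + k * j.e) :=
    SetLike.GradedSMul.smul_mem hgk' hz
  have hz2 : j.g ^ k • z' ∈ Gr 𝒜 f F (k' * j.e + k * j.e) := by
    rw [add_comm (k' * j.e)]
    exact SetLike.GradedSMul.smul_mem hgk hz'
  have hrep : IsRep F j (t + t') (k' + k) (k' * j.e + k * j.e)
      (j.g ^ k' • z + j.g ^ k • z') := by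
    refine ⟨(add_mul k' k j.e).symm, add_mem hz1 hz2, fun x => ?_⟩
    have hadd : GrMod.val (t + t') x = GrMod.val t x + GrMod.val t' x := rfl
    rw [hadd, hv x, hv' x, LocalizedModule.mk_add_mk]
    exact congrArg (LocalizedModule.mk _)
      (Subtype.ext ((pow_add j.g k' k).trans (mul_comm _ _)).symm)
  have g1 : Good 𝒜 (B j) (j.g ^ k') (j.g ^ k') := good_of hgk' hgk' (basicOpen_le_pow j.g k')
  have g2 : Good 𝒜 (B j) (j.g ^ k) (j.g ^ k) := good_of hgk hgk (basicOpen_le_pow j.g k)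
  rw [phiFun_eq F j _ hrep, phiFun_eq F j t ⟨rfl, hz, hv⟩, phiFun_eq F j t' ⟨rfl, hz', hv'⟩,
    Fr_add, Fr_smul F j hgk' hz,
    Fr_cast F j (add_comm k' k) (add_comm (k' * j.e) (k * j.e)) (j.g ^ k • z'),
    Fr_smul F j hgk hz', fr_self g1, fr_self g2, one_smul, one_smul]

lemma phiFun_smul (j : BIdx 𝒜 f) (r : Γ(Proj 𝒜, B j)) (t : Γ(Til 𝒜 f F, B j)) :
    phiFun F j (r • t) = r • phiFun F j t := by
  obtain ⟨k, n, z, hn, hz, hv⟩ := exists_rep F j t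
  subst hn
  obtain ⟨m, a, ha, hr⟩ := H8.ProjTilde.exists_structureSheaf_frac 𝒜 j.he j.hg r
  have hgm : j.g ^ m ∈ 𝒜 (m * j.e) := pow_mem' j m
  have G3 : Good 𝒜 (B j) a (j.g ^ m) := good_of ha hgm (basicOpen_le_pow j.g m)
  have hr' : r = fr 𝒜 (B j) a (j.g ^ m) := eq_fr_of_oval r G3 (fun x => hr x)
  have hrep : IsRep F j (r • t) (m + k) (m * j.e + k * j.e) (a • z) := by
    refine ⟨(add_mul m k j.e).symm, SetLike.GradedSMul.smul_mem ha hz, fun x => ?_⟩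
    have hsm := H8.ProjTilde.smul_val 𝒜 (Gr 𝒜 f F) r t x
    rw [hsm, hr x, hv x, LocalizedModule.mk_smul_mk]
    exact congrArg (LocalizedModule.mk _) (Subtype.ext (pow_add j.g m k).symm)
  rw [phiFun_eq F j _ hrep, phiFun_eq F j t ⟨rfl, hz, hv⟩, Fr_smul F j ha hz, ← hr']

/-- `β` on a basic open, as a linear map. -/
noncomputable def phi (j : BIdx 𝒜 f) : Γ(Til 𝒜 f F, B j) →ₗ[Γ(Proj 𝒜, B j)] Γ(F, B j) where
  toFun := phiFun F j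
  map_add' := phiFun_add F j
  map_smul' := fun r t => phiFun_smul F j r t

lemma phi_nat (j j' : BIdx 𝒜 f) (h : B j' ≤ B j) (t : Γ(Til 𝒜 f F, B j)) :
    F.presheaf.map (homOfLE h).op (phi F j t) =
      phi F j' ((Til 𝒜 f F).presheaf.map (homOfLE h).op t) := by
  obtain ⟨k, n, z, hrep⟩ := exists_rep F j t
  obtain ⟨k', n', z', hrep'⟩ := exists_rep F j' ((Til 𝒜 f F).presheaf.map (homOfLE h).op t)
  show rF 𝒜 F h (phiFun F j t) = phiFun F j' _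
  rw [phiFun_eq F j t hrep, phiFun_eq F j' _ hrep']
  exact Fr_eq_of_val F h hrep.hn hrep'.hn hrep.hz hrep'.hz
    (fun x => (hrep.hv ⟨x.1, h x.2⟩).symm.trans (hrep'.hv x))

variable (hcov : ∀ x : Proj 𝒜, ∃ i, x ∈ U 𝒜 f i)

/-- the morphism `β : Γ_*(F)~ ⟶ F`. -/
noncomputable def beta : Til 𝒜 f F ⟶ F :=
  H2.ModGlue.homOfBasis (B : BIdx 𝒜 f → (Proj 𝒜).Opens) (isBasis_B hcov) (Til 𝒜 f F) F
    (phi F) (phi_nat F)

lemma beta_app (j : BIdx 𝒜 f) (t : Γ(Til 𝒜 f F, B j)) :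
    (beta F hcov).app (B j) t = phiFun F j t :=
  H2.ModGlue.homOfBasis_app (B : BIdx 𝒜 f → (Proj 𝒜).Opens) (isBasis_B hcov) (Til 𝒜 f F) F
    (phi F) (phi_nat F) j t

end main

end Groth.Agent.LD.PT
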