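import Mathlib
import Groth.Agent.Lib.Lead.PT.Beta
import Groth.Agent.Lib.Lead.FPExt.Glue
import Groth.Agent.Lib.Lead.QC.SheafIso

set_option autoImplicit false
universe u
open AlgebraicGeometry CategoryTheory Opposite TopologicalSpace DirectSum HomogeneousLocalization

/-!
# `β : Γ_*(F)~ ⟶ F` is an isomorphism for quasi-coherent `F`
-/

namespace Groth.Agent.LD.PT

variable {R A : Type u} [CommRing R] [CommRing A] [Algebra R A] {𝒜 : ℕ → Submodule R A}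
  [GradedAlgebra 𝒜]
variable {ι : Type u} {f : ι → A}

lemma exists_uniform {κ : Type*} [Finite κ] {P : κ → ℕ → Prop}
    (hmono : ∀ l n m, n ≤ m → P l n → P l m) (h : ∀ l, ∃ n, P l n) : ∃ n, ∀ l, P l n := by
  classical
  haveI := Fintype.ofFinite κ
  choose n hn using h
  exact ⟨Finset.univ.sup n, fun l => hmono l _ _ (Finset.le_sup (Finset.mem_univ l)) (hn l)⟩

section affine
variable (F : (Proj 𝒜).Modules) [F.IsQuasicoherent]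

lemma surj_fr {V D : (Proj 𝒜).Opens} (hV : IsAffineOpen V) {a b : A} (hab : Good 𝒜 V a b)
    (hD : D = (Proj 𝒜).basicOpen (fr 𝒜 V a b)) (hDV : D ≤ V) (t : Γ(F, D)) :
    ∃ (n : ℕ) (s : Γ(F, V)), rF 𝒜 F hDV s = fr 𝒜 D (a ^ n) (b ^ n) • t := by
  subst hD
  obtain ⟨n, s, hs⟩ := QC.affine_surj F hV (fr 𝒜 V a b) t
  refine ⟨n, s, ?_⟩
  rw [fr_res _ hab, fr_pow (hab.mono hDV)] at hs
  exact hs

lemma inj_fr {V D : (Proj 𝒜).Opens} (hV : IsAffineOpen V) {a b : A} (hab : Good 𝒜 V a b)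
    (hD : (Proj 𝒜).basicOpen (fr 𝒜 V a b) ≤ D) (hDV : D ≤ V) (s : Γ(F, V))
    (hs : rF 𝒜 F hDV s = 0) : ∃ n : ℕ, fr 𝒜 V (a ^ n) (b ^ n) • s = 0 := by
  have h0 : F.presheaf.map (homOfLE ((Proj 𝒜).basicOpen_le (fr 𝒜 V a b))).op s = 0 := by
    have := congrArg (rF 𝒜 F hD) hs
    rw [rF_rF, rF_zero] at this
    exact this
  obtain ⟨n, hn⟩ := QC.affine_inj F hV (fr 𝒜 V a b) s h0
  exact ⟨n, by rw [← fr_pow hab]; exact hn⟩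

end affine

section charts
variable [hfF : Fact (∀ i, f i ∈ 𝒜 1)]

lemma isAffineOpen_U (l : ι) : IsAffineOpen (U 𝒜 f l) :=
  Proj.isAffineOpen_basicOpen 𝒜 (f l) (hfF.out l) one_pos

lemma isAffineOpen_UU (l l' : ι) : IsAffineOpen (U 𝒜 f l ⊓ U 𝒜 f l') := by
  have h : U 𝒜 f l ⊓ U 𝒜 f l' = Proj.basicOpen 𝒜 (f l * f l') :=
    (Proj.basicOpen_mul 𝒜 (f l) (f l')).symm
  rw [h]
  exact Proj.isAffineOpen_basicOpen 𝒜 (f l * f l')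
    (SetLike.mul_mem_graded (hfF.out l) (hfF.out l')) (by norm_num)

lemma good_c (l i : ι) {V : (Proj 𝒜).Opens} (hV : V ≤ U 𝒜 f l) : Good 𝒜 V (f i) (f l) :=
  good_of (hfF.out i) (hfF.out l) hV

lemma basicOpen_c (l i : ι) :
    (Proj 𝒜).basicOpen (fr 𝒜 (U 𝒜 f l) (f i) (f l)) = U 𝒜 f l ⊓ U 𝒜 f i := by
  have hg : Good 𝒜 (U 𝒜 f l) (f i) (f l) := good_c l i le_rfl
  exact H8.ProjTilde.basicOpen_eq_of_frac 𝒜 (fr 𝒜 (U 𝒜 f l) (f i) (f l)) 1 (f i)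
    (fun x => (oval_fr hg x).trans
      (congrArg (Localization.mk (f i)) (Subtype.ext (pow_one (f l)).symm)))

lemma basicOpen_cW (l l' i : ι) :
    (Proj 𝒜).basicOpen (fr 𝒜 (U 𝒜 f l ⊓ U 𝒜 f l') (f i) (f l)) ≤
      (U 𝒜 f l ⊓ U 𝒜 f l') ⊓ U 𝒜 f i := by
  rw [← fr_res (inf_le_left : U 𝒜 f l ⊓ U 𝒜 f l' ≤ U 𝒜 f l) (good_c l i le_rfl),
    Scheme.basicOpen_res, basicOpen_c]
  exact inf_le_inf_left _ inf_le_right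

variable (F : (Proj 𝒜).Modules)

/-- **the extension lemma**: every section over a chart is the `i`-th coordinate of an element
of `Γ_*(F)`. -/
theorem exists_ext [Finite ι] [F.IsQuasicoherent] (i : ι) (s : Γ(F, U 𝒜 f i)) :
    ∃ (N : ℕ) (τ : Tup 𝒜 f F), Compat 𝒜 f F N τ ∧ τ i = s := by
  classical
  have hf := hfF.out
  have step1 : ∃ n₁, ∀ l, ∃ a : Γ(F, U 𝒜 f l),
      rF 𝒜 F (inf_le_left : U 𝒜 f l ⊓ U 𝒜 f i ≤ U 𝒜 f l) a =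
        fr 𝒜 (U 𝒜 f l ⊓ U 𝒜 f i) (f i ^ n₁) (f l ^ n₁) •
          rF 𝒜 F (inf_le_right : U 𝒜 f l ⊓ U 𝒜 f i ≤ U 𝒜 f i) s := by
    refine exists_uniform (P := fun l n => ∃ a : Γ(F, U 𝒜 f l),
      rF 𝒜 F (inf_le_left : U 𝒜 f l ⊓ U 𝒜 f i ≤ U 𝒜 f l) a =
        fr 𝒜 (U 𝒜 f l ⊓ U 𝒜 f i) (f i ^ n) (f l ^ n) •
          rF 𝒜 F (inf_le_right : U 𝒜 f l ⊓ U 𝒜 f i ≤ U 𝒜 f i) s) ?_ ?_
    · rintro l n m hnm ⟨a, ha⟩
      obtain ⟨d, rfl⟩ := Nat.exists_eq_add_of_le hnm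
      have hli : U 𝒜 f l ⊓ U 𝒜 f i ≤ U 𝒜 f l := inf_le_left
      have hgd : Good 𝒜 (U 𝒜 f l) (f i ^ d) (f l ^ d) := (good_c l i le_rfl).pow d
      refine ⟨fr 𝒜 (U 𝒜 f l) (f i ^ d) (f l ^ d) • a, ?_⟩
      rw [rF_fr_smul hli hgd, ha, smul_smul, fr_mul (hgd.mono hli) ((good_c l i hli).pow n),
        ← pow_add, ← pow_add, add_comm d n]
    · intro l
      exact surj_fr F (isAffineOpen_U l) (good_c l i le_rfl) (basicOpen_c l i).symm inf_le_left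
        (rF 𝒜 F inf_le_right s)
  obtain ⟨n₁, h1⟩ := step1
  choose a ha using h1
  have key : ∀ (l : ι) (T : (Proj 𝒜).Opens) (hTl : T ≤ U 𝒜 f l) (hTi : T ≤ U 𝒜 f i),
      rF 𝒜 F hTl (a l) = fr 𝒜 T (f i ^ n₁) (f l ^ n₁) • rF 𝒜 F hTi s := by
    intro l T hTl hTi
    have hli : U 𝒜 f l ⊓ U 𝒜 f i ≤ U 𝒜 f l := inf_le_left
    have := congrArg (rF 𝒜 F (le_inf hTl hTi)) (ha l)
    rw [rF_rF, rF_fr_smul _ ((good_c l i hli).pow n₁), rF_rF] at this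
    exact this
  have hai : a i = s := by
    have := key i (U 𝒜 f i) le_rfl le_rfl
    rw [rF_self, rF_self, fr_self ((good_c i i le_rfl).pow n₁), one_smul] at this
    exact this
  have step2 : ∃ N₂, ∀ p : ι × ι,
      fr 𝒜 (U 𝒜 f p.1 ⊓ U 𝒜 f p.2) (f i ^ N₂) (f p.1 ^ N₂) •
        (rF 𝒜 F (inf_le_left : U 𝒜 f p.1 ⊓ U 𝒜 f p.2 ≤ U 𝒜 f p.1) (a p.1) -
          fr 𝒜 (U 𝒜 f p.1 ⊓ U 𝒜 f p.2) (f p.2 ^ n₁) (f p.1 ^ n₁) •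
            rF 𝒜 F (inf_le_right : U 𝒜 f p.1 ⊓ U 𝒜 f p.2 ≤ U 𝒜 f p.2) (a p.2)) = 0 := by
    refine exists_uniform (P := fun (p : ι × ι) N =>
      fr 𝒜 (U 𝒜 f p.1 ⊓ U 𝒜 f p.2) (f i ^ N) (f p.1 ^ N) •
        (rF 𝒜 F (inf_le_left : U 𝒜 f p.1 ⊓ U 𝒜 f p.2 ≤ U 𝒜 f p.1) (a p.1) -
          fr 𝒜 (U 𝒜 f p.1 ⊓ U 𝒜 f p.2) (f p.2 ^ n₁) (f p.1 ^ n₁) •
            rF 𝒜 F (inf_le_right : U 𝒜 f p.1 ⊓ U 𝒜 f p.2 ≤ U 𝒜 f p.2) (a p.2)) = 0) ?_ ?_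
    · rintro p n m hnm h
      obtain ⟨d, rfl⟩ := Nat.exists_eq_add_of_le hnm
      beta_reduce at h ⊢
      have hW : U 𝒜 f p.1 ⊓ U 𝒜 f p.2 ≤ U 𝒜 f p.1 := inf_le_left
      have e : fr 𝒜 (U 𝒜 f p.1 ⊓ U 𝒜 f p.2) (f i ^ (n + d)) (f p.1 ^ (n + d)) =
          fr 𝒜 (U 𝒜 f p.1 ⊓ U 𝒜 f p.2) (f i ^ d) (f p.1 ^ d) *
            fr 𝒜 (U 𝒜 f p.1 ⊓ U 𝒜 f p.2) (f i ^ n) (f p.1 ^ n) := by
        rw [fr_mul ((good_c p.1 i hW).pow d) ((good_c p.1 i hW).pow n), ← pow_add, ← pow_add,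
          add_comm d n]
      rw [e, mul_smul, h, smul_zero]
    · rintro ⟨l, l'⟩
      have hW1 : U 𝒜 f l ⊓ U 𝒜 f l' ≤ U 𝒜 f l := inf_le_left
      have hW2 : U 𝒜 f l ⊓ U 𝒜 f l' ≤ U 𝒜 f l' := inf_le_right
      have hT : (U 𝒜 f l ⊓ U 𝒜 f l') ⊓ U 𝒜 f i ≤ U 𝒜 f l ⊓ U 𝒜 f l' := inf_le_left
      have hTi : (U 𝒜 f l ⊓ U 𝒜 f l') ⊓ U 𝒜 f i ≤ U 𝒜 f i := inf_le_right
      have g1 : Good 𝒜 ((U 𝒜 f l ⊓ U 𝒜 f l') ⊓ U 𝒜 f i) (f l' ^ n₁) (f l ^ n₁) :=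
        good_pp hf l l' n₁ (hT.trans hW1)
      have g2 : Good 𝒜 ((U 𝒜 f l ⊓ U 𝒜 f l') ⊓ U 𝒜 f i) (f i ^ n₁) (f l' ^ n₁) :=
        (good_c l' i (hT.trans hW2)).pow n₁
      have g3 : Good 𝒜 ((U 𝒜 f l ⊓ U 𝒜 f l') ⊓ U 𝒜 f i) (f i ^ n₁) (f l ^ n₁) :=
        (good_c l i (hT.trans hW1)).pow n₁
      have e : fr 𝒜 ((U 𝒜 f l ⊓ U 𝒜 f l') ⊓ U 𝒜 f i) (f l' ^ n₁) (f l ^ n₁) *
          fr 𝒜 ((U 𝒜 f l ⊓ U 𝒜 f l') ⊓ U 𝒜 f i) (f i ^ n₁) (f l' ^ n₁) =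
          fr 𝒜 ((U 𝒜 f l ⊓ U 𝒜 f l') ⊓ U 𝒜 f i) (f i ^ n₁) (f l ^ n₁) := by
        rw [fr_mul g1 g2]
        exact fr_cross (g1.mul g2) g3 (by ring)
      have hδ : rF 𝒜 F hT (rF 𝒜 F hW1 (a l) -
          fr 𝒜 (U 𝒜 f l ⊓ U 𝒜 f l') (f l' ^ n₁) (f l ^ n₁) • rF 𝒜 F hW2 (a l')) = 0 := by
        rw [rF_sub, rF_rF, rF_fr_smul hT (good_pp hf l l' n₁ hW1), rF_rF,
          key l _ (hT.trans hW1) hTi, key l' _ (hT.trans hW2) hTi, smul_smul, e, sub_self]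
      exact inj_fr F (isAffineOpen_UU l l') (good_c l i hW1) (basicOpen_cW l l' i) hT _ hδ
  obtain ⟨N₂, h2⟩ := step2
  refine ⟨N₂ + n₁, fun l => fr 𝒜 (U 𝒜 f l) (f i ^ N₂) (f l ^ N₂) • a l, ?_, ?_⟩
  · unfold Compat
    intro l l'
    have hW1 : U 𝒜 f l ⊓ U 𝒜 f l' ≤ U 𝒜 f l := inf_le_left
    have hW2 : U 𝒜 f l ⊓ U 𝒜 f l' ≤ U 𝒜 f l' := inf_le_right
    have h3 : fr 𝒜 (U 𝒜 f l ⊓ U 𝒜 f l') (f i ^ N₂) (f l ^ N₂) • rF 𝒜 F hW1 (a l) =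
        fr 𝒜 (U 𝒜 f l ⊓ U 𝒜 f l') (f i ^ N₂) (f l ^ N₂) •
          fr 𝒜 (U 𝒜 f l ⊓ U 𝒜 f l') (f l' ^ n₁) (f l ^ n₁) • rF 𝒜 F hW2 (a l') := by
      have := h2 (l, l')
      rw [smul_sub, sub_eq_zero] at this
      exact this
    have gA : Good 𝒜 (U 𝒜 f l ⊓ U 𝒜 f l') (f i ^ N₂) (f l ^ N₂) := (good_c l i hW1).pow N₂
    have gB : Good 𝒜 (U 𝒜 f l ⊓ U 𝒜 f l') (f l' ^ n₁) (f l ^ n₁) := good_pp hf l l' n₁ hW1
    have gC : Good 𝒜 (U 𝒜 f l ⊓ U 𝒜 f l') (f l' ^ (N₂ + n₁)) (f l ^ (N₂ + n₁)) :=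
      good_pp hf l l' _ hW1
    have gD : Good 𝒜 (U 𝒜 f l ⊓ U 𝒜 f l') (f i ^ N₂) (f l' ^ N₂) := (good_c l' i hW2).pow N₂
    show rF 𝒜 F hW1 (fr 𝒜 (U 𝒜 f l) (f i ^ N₂) (f l ^ N₂) • a l) =
      fr 𝒜 (U 𝒜 f l ⊓ U 𝒜 f l') (f l' ^ (N₂ + n₁)) (f l ^ (N₂ + n₁)) •
        rF 𝒜 F hW2 (fr 𝒜 (U 𝒜 f l') (f i ^ N₂) (f l' ^ N₂) • a l')
    rw [rF_fr_smul hW1 ((good_c l i le_rfl).pow N₂), rF_fr_smul hW2 ((good_c l' i le_rfl).pow N₂),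
      h3, smul_smul, smul_smul, fr_mul gA gB, fr_mul gC gD]
    congr 1
    exact fr_cross (gA.mul gB) (gC.mul gD) (by ring)
  · show fr 𝒜 (U 𝒜 f i) (f i ^ N₂) (f i ^ N₂) • a i = s
    rw [fr_self ((good_c i i le_rfl).pow N₂), one_smul, hai]

/-- the basis index of the chart `U_i`. -/
def chartIdx (i : ι) : BIdx 𝒜 f := ⟨i, 1, one_pos, f i, hfF.out i, le_rfl⟩

variable (hcov : ∀ x : Proj 𝒜, ∃ i, x ∈ U 𝒜 f i)

lemma beta_app_chart (i : ι) {t : Γ(Til 𝒜 f F, B (chartIdx (𝒜 := 𝒜) (f := f) i))} {N : ℕ}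
    {z : GS 𝒜 f F} (h : IsRep F (chartIdx i) t N N z) :
    (beta F hcov).app (B (chartIdx (𝒜 := 𝒜) (f := f) i)) t = coord F N i z := by
  rw [beta_app, phiFun_eq F _ t h]
  show fr 𝒜 (U 𝒜 f i) (f i ^ N) (f i ^ N) • rF 𝒜 F (le_refl _) (coord F N i z) = coord F N i z
  rw [fr_self (good_rho hfF.out i N (pow_mem hfF.out i N)), one_smul, rF_self]

theorem beta_injective [Finite ι] [F.IsQuasicoherent] (i : ι) :
    Function.Injective ((beta F hcov).app (B (chartIdx (𝒜 := 𝒜) (f := f) i))) := by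
  classical
  have hf := hfF.out
  rw [injective_iff_map_eq_zero]
  intro t ht
  obtain ⟨k, n, z, hn, hz, hv⟩ := exists_rep F (chartIdx i) t
  have hn' : n = k := hn.trans (mul_one k)
  subst hn'
  have h0 : coord F n i z = 0 := by
    rw [← beta_app_chart F hcov i ⟨hn, hz, hv⟩]
    exact ht
  have hkill : ∃ N, ∀ l, fr 𝒜 (U 𝒜 f l) (f i ^ N) (f l ^ N) • coord F n l z = 0 := by
    refine exists_uniform
      (P := fun l N => fr 𝒜 (U 𝒜 f l) (f i ^ N) (f l ^ N) • coord F n l z = 0) ?_ ?_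
    · intro l a b hab h
      obtain ⟨d, rfl⟩ := Nat.exists_eq_add_of_le hab
      beta_reduce at h ⊢
      have e : fr 𝒜 (U 𝒜 f l) (f i ^ (a + d)) (f l ^ (a + d)) =
          fr 𝒜 (U 𝒜 f l) (f i ^ d) (f l ^ d) * fr 𝒜 (U 𝒜 f l) (f i ^ a) (f l ^ a) := by
        rw [fr_mul ((good_c l i le_rfl).pow d) ((good_c l i le_rfl).pow a), ← pow_add, ← pow_add,
          add_comm d a]
      rw [e, mul_smul, h, smul_zero]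
    · intro l
      have hres : rF 𝒜 F (inf_le_left : U 𝒜 f l ⊓ U 𝒜 f i ≤ U 𝒜 f l) (coord F n l z) = 0 := by
        rw [coord_compat' F hz l i, h0, rF_zero, smul_zero]
      exact inj_fr F (isAffineOpen_U l) (good_c l i le_rfl) (basicOpen_c l i).le inf_le_left _ hres
  obtain ⟨N, hN⟩ := hkill
  have hz0 : f i ^ N • z = 0 := by
    have hmem : f i ^ N • z ∈ Gr 𝒜 f F (N + n) :=
      SetLike.GradedSMul.smul_mem (pow_mem hf i N) hz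
    refine eq_zero_of_coord' F hmem fun l => ?_
    rw [coord_smul' F (pow_mem hf i N) l hz]
    exact hN l
  refine H8.ProjTilde.sect_ext 𝒜 (Gr 𝒜 f F) (H8.ProjTilde.toSect 𝒜 (Gr 𝒜 f F) t) 0 fun x => ?_
  refine (hv x).trans ?_
  change _ = (0 : GrMod.LocMod 𝒜 (M := GS 𝒜 f F) x.1)
  rw [H8.ProjTilde.mk_eq_zero_iff]
  exact ⟨⟨f i ^ N, H8.ProjTilde.pow_notMem_of_mem_basicOpen 𝒜 (f := f i) N x⟩, hz0⟩

/-- every section over a chart is a coordinate of a homogeneous element. -/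
theorem exists_coord_eq [Finite ι] [F.IsQuasicoherent] (i : ι) (s : Γ(F, U 𝒜 f i)) :
    ∃ (N : ℕ) (z : GS 𝒜 f F), z ∈ Gr 𝒜 f F N ∧ coord F N i z = s := by
  obtain ⟨N, τ, hτ, hτi⟩ := exists_ext F i s
  exact ⟨N, mkGS F N τ hτ, mkGS_mem' F N τ hτ, (coord_mkGS F N τ hτ i).trans hτi⟩

/-- the section `z / f_i ^ N` of `Γ_*(F)~` over the chart `U_i`. -/
noncomputable def chartSect (i : ι) {N : ℕ} {z : GS 𝒜 f F} (hz : z ∈ Gr 𝒜 f F N) :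
    Γ(Til 𝒜 f F, B (chartIdx (𝒜 := 𝒜) (f := f) i)) :=
  H8.ProjTilde.ofSect 𝒜 (Gr 𝒜 f F) (H8.ProjTilde.powSect 𝒜 (Gr 𝒜 f F) 0 (hfF.out i) N hz
    (by push_cast; ring))

lemma isRep_chartSect (i : ι) {N : ℕ} {z : GS 𝒜 f F} (hz : z ∈ Gr 𝒜 f F N) :
    IsRep F (chartIdx i) (chartSect F i hz) N N z :=
  ⟨(mul_one N).symm, hz, fun _ => rfl⟩

lemma beta_app_chartSect (i : ι) {N : ℕ} {z : GS 𝒜 f F} (hz : z ∈ Gr 𝒜 f F N) :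
    (beta F hcov).app (B (chartIdx (𝒜 := 𝒜) (f := f) i)) (chartSect F i hz) = coord F N i z :=
  beta_app_chart F hcov i (isRep_chartSect F i hz)

theorem beta_surjective [Finite ι] [F.IsQuasicoherent] (i : ι) :
    Function.Surjective ((beta F hcov).app (B (chartIdx (𝒜 := 𝒜) (f := f) i))) := by
  intro s
  obtain ⟨N, z, hz, hzs⟩ := exists_coord_eq F i s
  exact ⟨chartSect F i hz, (beta_app_chartSect F hcov i hz).trans hzs⟩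

theorem isIso_beta [Finite ι] [F.IsQuasicoherent] : IsIso (beta F hcov) := by
  haveI : (Til 𝒜 f F).IsQuasicoherent := H8.ProjTilde.tilde_isQuasicoherent 𝒜 (Gr 𝒜 f F) 0
  apply QC.isIso_of_local_bijective
  intro x W hxW
  obtain ⟨i, hi⟩ := hcov x
  refine ⟨W ⊓ U 𝒜 f i, ⟨hxW, hi⟩, inf_le_left, ?_⟩
  exact FPExt.bijective_app_of_le_affine (beta F hcov) (isAffineOpen_U i)
    ⟨beta_injective F hcov i, beta_surjective F hcov i⟩ _ inf_le_right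

end charts

end Groth.Agent.LD.PT
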