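import Mathlib
import Groth.Agent.Lib.Lead.PT.Iso
import Groth.Agent.Lib.Lead.QC.FinType
import Groth.Agent.Lib.Lead.QC.Coh
import Groth.Agent.Lib.Helper8.ProjTilde.Sat
import Groth.Agent.Lib.Helper8.ProjTilde.Exact

set_option autoImplicit false
universe u
open AlgebraicGeometry CategoryTheory Opposite TopologicalSpace DirectSum HomogeneousLocalization

/-!
# Homogeneous submodules as graded modules; the finite type case of `F ≅ M~`
-/

namespace Groth.Agent.LD.PT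

section SubGr
variable {R A M : Type u} [CommRing R] [CommRing A] [Algebra R A] [AddCommGroup M] [Module R M]
  [Module A M] [IsScalarTower R A M]
variable (ℳ : ℕ → Submodule R M)
variable (P : Submodule A M)

/-- the induced grading on a submodule. -/
def subGr (n : ℕ) : Submodule R P where
  carrier := {x | (x : M) ∈ ℳ n}
  add_mem' := fun {a b} ha hb => by
    show ((a + b : P) : M) ∈ ℳ n
    rw [Submodule.coe_add]
    exact add_mem ha hb
  zero_mem' := by
    show ((0 : P) : M) ∈ ℳ n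
    rw [Submodule.coe_zero]
    exact zero_mem _
  smul_mem' := fun r x hx => by
    show ((r • x : P) : M) ∈ ℳ n
    rw [Submodule.coe_smul_of_tower]
    exact Submodule.smul_mem _ r hx

lemma mem_subGr {n : ℕ} {x : P} : x ∈ subGr ℳ P n ↔ (x : M) ∈ ℳ n := Iff.rfl

variable [DirectSum.Decomposition ℳ]

lemma subGr_iSupIndep : iSupIndep (subGr ℳ P) := by
  classical
  have hind : iSupIndep ℳ := (DirectSum.Decomposition.isInternal ℳ).submodule_iSupIndep
  intro n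
  rw [Submodule.disjoint_def]
  intro x hxn hxs
  have hmap : Submodule.map (P.subtype.restrictScalars R)
      (⨆ (j : ℕ) (_ : j ≠ n), subGr ℳ P j) ≤ ⨆ (j : ℕ) (_ : j ≠ n), ℳ j := by
    rw [Submodule.map_iSup]
    refine iSup_le fun j => ?_
    rw [Submodule.map_iSup]
    refine iSup_le fun hj => ?_
    refine le_iSup₂_of_le j hj ?_
    rintro _ ⟨y, hy, rfl⟩
    exact hy
  have h1 : (x : M) ∈ ⨆ (j : ℕ) (_ : j ≠ n), ℳ j := hmap (Submodule.mem_map_of_mem hxs)
  have h0 : (x : M) = 0 := (Submodule.disjoint_def.mp (hind n)) (x : M) hxn h1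
  exact Subtype.ext h0

variable (hP : ∀ x ∈ P, ∀ n, (DirectSum.decompose ℳ x n : M) ∈ P)

include hP in
lemma subGr_iSup_eq_top : iSup (subGr ℳ P) = ⊤ := by
  classical
  rw [Submodule.eq_top_iff']
  intro x
  have hx : x = ∑ n ∈ (DirectSum.decompose ℳ (x : M)).support,
      (⟨(DirectSum.decompose ℳ (x : M) n : M), hP x x.2 n⟩ : P) := by
    apply Subtype.ext
    rw [AddSubmonoidClass.coe_finsetSum]
    exact (DirectSum.sum_support_decompose ℳ (x : M)).symm
  rw [hx]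
  refine sum_mem fun n _ => ?_
  exact Submodule.mem_iSup_of_mem n
    (show (⟨(DirectSum.decompose ℳ (x : M) n : M), hP x x.2 n⟩ : P) ∈ subGr ℳ P n from
      (DirectSum.decompose ℳ (x : M) n).2)

include hP in
theorem subGr_isInternal : DirectSum.IsInternal (subGr ℳ P) :=
  DirectSum.isInternal_submodule_of_iSupIndep_of_iSup_eq_top (subGr_iSupIndep ℳ P)
    (subGr_iSup_eq_top ℳ P hP)

/-- the decomposition of a homogeneous submodule. -/
noncomputable def subDecomp : DirectSum.Decomposition (subGr ℳ P) :=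
  (subGr_isInternal ℳ P hP).chooseDecomposition

variable (𝒜 : ℕ → Submodule R A) [GradedAlgebra 𝒜] [SetLike.GradedSMul 𝒜 ℳ]

/-- the induced grading is compatible with the action. -/
scoped instance subGr_gradedSMul : SetLike.GradedSMul 𝒜 (subGr ℳ P) where
  smul_mem := by
    intro i j a x ha hx
    show ((a • x : P) : M) ∈ ℳ (i + j)
    rw [Submodule.coe_smul]
    exact SetLike.GradedSMul.smul_mem ha (show (x : M) ∈ ℳ j from hx)

include 𝒜 in
/-- the span of homogeneous elements is a homogeneous submodule. -/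
theorem span_homog {Z : Set M} (hZ : ∀ z ∈ Z, ∃ d, z ∈ ℳ d) (x : M)
    (hx : x ∈ Submodule.span A Z) :
    ∀ n, (DirectSum.decompose ℳ x n : M) ∈ Submodule.span A Z := by
  classical
  induction hx using Submodule.span_induction with
  | mem z hz =>
    intro n
    obtain ⟨d, hd⟩ := hZ z hz
    by_cases h : d = n
    · subst h
      rw [DirectSum.decompose_of_mem_same ℳ hd]
      exact Submodule.subset_span hz
    · rw [DirectSum.decompose_of_mem_ne ℳ hd h]
      exact zero_mem _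
  | zero =>
    intro n
    rw [DirectSum.decompose_zero, DirectSum.zero_apply, ZeroMemClass.coe_zero]
    exact zero_mem _
  | add x y _ _ hx hy =>
    intro n
    rw [DirectSum.decompose_add, DirectSum.add_apply, AddMemClass.coe_add]
    exact add_mem (hx n) (hy n)
  | smul a x _ hx =>
    intro n
    rw [H8.ProjTilde.decompose_smul_general 𝒜 ℳ a x n]
    refine sum_mem fun j _ => ?_
    split_ifs
    · exact Submodule.smul_mem _ _ (hx j)
    · exact zero_mem _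

end SubGr

section fin
variable {R A : Type u} [CommRing R] [CommRing A] [Algebra R A] {𝒜 : ℕ → Submodule R A}
  [GradedAlgebra 𝒜]
variable {ι : Type u} {f : ι → A} [hfF : Fact (∀ i, f i ∈ 𝒜 1)] (F : (Proj 𝒜).Modules)
variable (hcov : ∀ x : Proj 𝒜, ∃ i, x ∈ U 𝒜 f i)
variable (P : Submodule A (GS 𝒜 f F))

/-- the morphism `P~ ⟶ Γ_*(F)~` induced by the inclusion. -/
noncomputable def psi : GrMod.tilde 𝒜 (subGr (Gr 𝒜 f F) P) 0 ⟶ Til 𝒜 f F :=
  GrMod.map 𝒜 P.subtype (fun _ _ h => h) 0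

/-- the morphism `P~ ⟶ F`. -/
noncomputable def gam : GrMod.tilde 𝒜 (subGr (Gr 𝒜 f F) P) 0 ⟶ F :=
  psi F P ≫ beta F hcov

/-- the section `y / f_i ^ N` of `P~` over the chart `U_i`. -/
noncomputable def chartSectP (i : ι) {N : ℕ} {y : P} (hy : y ∈ subGr (Gr 𝒜 f F) P N) :
    Γ(GrMod.tilde 𝒜 (subGr (Gr 𝒜 f F) P) 0, B (chartIdx (𝒜 := 𝒜) (f := f) i)) :=
  H8.ProjTilde.ofSect 𝒜 (subGr (Gr 𝒜 f F) P)
    (H8.ProjTilde.powSect 𝒜 (subGr (Gr 𝒜 f F) P) 0 (hfF.out i) N hy (by push_cast; ring))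

variable (hP : ∀ x ∈ P, ∀ n, (DirectSum.decompose (Gr 𝒜 f F) x n : GS 𝒜 f F) ∈ P)

include hP in
lemma psi_chartSectP (i : ι) {N : ℕ} {y : P} (hy : y ∈ subGr (Gr 𝒜 f F) P N) :
    (psi F P).app (B (chartIdx (𝒜 := 𝒜) (f := f) i)) (chartSectP F P i hy) =
      chartSect F i (show (y : GS 𝒜 f F) ∈ Gr 𝒜 f F N from hy) := by
  letI := subDecomp (Gr 𝒜 f F) P hP
  exact H8.ProjTilde.mapApp_powSect 𝒜 (subGr (Gr 𝒜 f F) P) (Gr 𝒜 f F) P.subtype
    (fun _ _ h => h) 0 (hfF.out i) N hy (by push_cast; ring)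

include hP in
lemma psi_injective (i : ι) :
    Function.Injective ((psi F P).app (B (chartIdx (𝒜 := 𝒜) (f := f) i))) := by
  letI := subDecomp (Gr 𝒜 f F) P hP
  have key : Function.Injective (GrMod.mapApp (𝒜 := 𝒜) (ℳ := subGr (Gr 𝒜 f F) P)
      (𝒩 := Gr 𝒜 f F) P.subtype (fun _ _ h => h) 0
      (op (ProjectiveSpectrum.basicOpen 𝒜 (f i)))) := by
    rw [injective_iff_map_eq_zero]
    intro t ht
    obtain ⟨k, n, y, hy, hn, rfl⟩ := H8.ProjTilde.exists_eq_powSect 𝒜 (subGr (Gr 𝒜 f F) P) 0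
      one_pos (hfF.out i) t
    rw [H8.ProjTilde.mapApp_powSect,
      H8.ProjTilde.powSect_eq_zero_iff 𝒜 (Gr 𝒜 f F) 0 one_pos (hfF.out i)] at ht
    obtain ⟨N, hN⟩ := ht
    rw [H8.ProjTilde.powSect_eq_zero_iff 𝒜 (subGr (Gr 𝒜 f F) P) 0 one_pos (hfF.out i)]
    exact ⟨N, Subtype.ext hN⟩
  exact key

include hP in
theorem isIso_gam [Finite ι] [F.IsQuasicoherent]
    (hS : ∀ i, ∃ S : Set Γ(F, U 𝒜 f i), Submodule.span Γ(Proj 𝒜, U 𝒜 f i) S = ⊤ ∧
      ∀ s ∈ S, ∃ (N : ℕ) (z : GS 𝒜 f F), z ∈ Gr 𝒜 f F N ∧ z ∈ P ∧ coord F N i z = s) :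
    IsIso (gam F hcov P) := by
  letI := subDecomp (Gr 𝒜 f F) P hP
  haveI : (GrMod.tilde 𝒜 (subGr (Gr 𝒜 f F) P) 0).IsQuasicoherent :=
    H8.ProjTilde.tilde_isQuasicoherent 𝒜 (subGr (Gr 𝒜 f F) P) 0
  apply QC.isIso_of_local_bijective
  intro x W hxW
  obtain ⟨i, hi⟩ := hcov x
  refine ⟨W ⊓ U 𝒜 f i, ⟨hxW, hi⟩, inf_le_left, ?_⟩
  refine FPExt.bijective_app_of_le_affine (gam F hcov P) (isAffineOpen_U i) ⟨?_, ?_⟩ _
    inf_le_right
  · intro t t' h
    apply psi_injective F P hP i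
    apply beta_injective F hcov i
    exact h
  · obtain ⟨S, hSspan, hSrep⟩ := hS i
    have hrange : Submodule.span Γ(Proj 𝒜, U 𝒜 f i) S ≤
        LinearMap.range (QC.appLinear (gam F hcov P) (U 𝒜 f i)) := by
      rw [Submodule.span_le]
      intro s hs
      obtain ⟨N, z, hz, hzP, hzs⟩ := hSrep s hs
      have hy : (⟨z, hzP⟩ : P) ∈ subGr (Gr 𝒜 f F) P N := hz
      refine LinearMap.mem_range.mpr ⟨chartSectP F P i hy, ?_⟩
      show (beta F hcov).app (B (chartIdx (𝒜 := 𝒜) (f := f) i))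
        ((psi F P).app (B (chartIdx (𝒜 := 𝒜) (f := f) i)) (chartSectP F P i hy)) = s
      rw [psi_chartSectP F P hP i hy]
      exact (beta_app_chartSect F hcov i hz).trans hzs
    intro s
    have hs : s ∈ LinearMap.range (QC.appLinear (gam F hcov P) (U 𝒜 f i)) :=
      hrange (by rw [hSspan]; exact Submodule.mem_top)
    obtain ⟨t, ht⟩ := LinearMap.mem_range.mp hs
    exact ⟨t, ht⟩

include hcov in
/-- **the finite type case**: `F` is `P~` for a finitely generated homogeneous submodule `P` of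
`Γ_*(F)`. -/
theorem exists_fin_tilde [Finite ι] [F.IsQuasicoherent] (hFT : F.IsFiniteType) :
    ∃ (P : Submodule A (GS 𝒜 f F))
      (_ : ∀ x ∈ P, ∀ n, (DirectSum.decompose (Gr 𝒜 f F) x n : GS 𝒜 f F) ∈ P),
      P.FG ∧ Nonempty (GrMod.tilde 𝒜 (subGr (Gr 𝒜 f F) P) 0 ≅ F) := by
  classical
  have hfin : ∀ i, Module.Finite Γ(Proj 𝒜, U 𝒜 f i) Γ(F, U 𝒜 f i) := fun i =>
    QC.finite_sections_of_isFiniteType F hFT (isAffineOpen_U i)
  have hS : ∀ i, ∃ S : Finset Γ(F, U 𝒜 f i),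
      Submodule.span Γ(Proj 𝒜, U 𝒜 f i) (S : Set Γ(F, U 𝒜 f i)) = ⊤ := fun i => (hfin i).fg_top
  choose S hS using hS
  choose Nf zf hzf hcoord using fun (i : ι) (s : Γ(F, U 𝒜 f i)) => exists_coord_eq F i s
  let Z : Set (GS 𝒜 f F) := ⋃ i, (zf i) '' (S i : Set Γ(F, U 𝒜 f i))
  have hZfin : Z.Finite := Set.finite_iUnion fun i => (S i).finite_toSet.image _
  have hZ : ∀ z ∈ Z, ∃ d, z ∈ Gr 𝒜 f F d := by
    intro z hz
    obtain ⟨i, hz⟩ := Set.mem_iUnion.mp hz
    obtain ⟨s, _, rfl⟩ := hz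
    exact ⟨_, hzf i s⟩
  have hP : ∀ x ∈ Submodule.span A Z, ∀ n,
      (DirectSum.decompose (Gr 𝒜 f F) x n : GS 𝒜 f F) ∈ Submodule.span A Z :=
    fun x hx => span_homog (Gr 𝒜 f F) 𝒜 hZ x hx
  refine ⟨Submodule.span A Z, hP, Submodule.fg_span hZfin, ?_⟩
  haveI := isIso_gam F hcov (Submodule.span A Z) hP (fun i => ⟨(S i : Set Γ(F, U 𝒜 f i)), hS i,
    fun s hs => ⟨Nf i s, zf i s, hzf i s,
      Submodule.subset_span (Set.mem_iUnion.mpr ⟨i, s, hs, rfl⟩), hcoord i s⟩⟩)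
  exact ⟨asIso (gam F hcov (Submodule.span A Z))⟩

end fin

end Groth.Agent.LD.PT
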